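import Groth.Agent.FibDescSplit.Top

/-!
# Maps with a section are universally of cohomological descent
-/

set_option backward.isDefEq.respectTransparency false
set_option backward.isDefEq.respectTransparency.types false
set_option linter.style.haveILetI false
set_option autoImplicit false

universe u

open CategoryTheory CategoryTheory.Limits Opposite Simplicial

namespace Groth.Agent.FibDescSplit

/-- adjoin a new first vertex -/
def shiftHom {n m : SimplexCategory} (φ : n ⟶ m) :
    SimplexCategory.mk (n.len + 1) ⟶ SimplexCategory.mk (m.len + 1) :=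
  SimplexCategory.Hom.mk
    { toFun := Fin.cases 0 (fun j => (φ.toOrderHom j).succ)
      monotone' := fun i j h => by
        induction i using Fin.cases with
        | zero => exact Fin.zero_le _
        | succ i =>
          induction j using Fin.cases with
          | zero => exact absurd h (Fin.not_le.2 (Fin.succ_pos _))
          | succ j => simpa using φ.toOrderHom.monotone (Fin.succ_le_succ_iff.1 h) }

theorem shiftHom_zero {n m : SimplexCategory} (φ : n ⟶ m) : (shiftHom φ).toOrderHom 0 = 0 := rfl

theorem shiftHom_succ {n m : SimplexCategory} (φ : n ⟶ m) (j : Fin (n.len + 1)) :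
    (shiftHom φ).toOrderHom j.succ = (φ.toOrderHom j).succ := by
  simp [shiftHom]

theorem shiftHom_id (n : SimplexCategory) : shiftHom (𝟙 n) = 𝟙 _ := by
  apply SimplexCategory.Hom.ext
  ext j : 2
  induction j using Fin.cases with
  | zero => rfl
  | succ j => exact shiftHom_succ _ j

theorem shiftHom_comp {n m k : SimplexCategory} (φ : n ⟶ m) (ψ : m ⟶ k) :
    shiftHom (φ ≫ ψ) = shiftHom φ ≫ shiftHom ψ := by
  apply SimplexCategory.Hom.ext
  ext j : 2
  induction j using Fin.cases with
  | zero => rfl
  | succ j =>
    exact (shiftHom_succ _ j).trans ((shiftHom_succ ψ _).symm.trans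
      (congrArg (shiftHom ψ).toOrderHom (shiftHom_succ φ j)).symm)

/-- the shift functor on the simplex category -/
def shiftS : SimplexCategory ⥤ SimplexCategory where
  obj n := SimplexCategory.mk (n.len + 1)
  map φ := shiftHom φ
  map_id := shiftHom_id
  map_comp := shiftHom_comp

/-- the shift, defined on the augmented simplex category -/
def shiftA : WithInitial SimplexCategory ⥤ SimplexCategory :=
  WithInitial.lift shiftS (fun n => SimplexCategory.const ⦋0⦌ (SimplexCategory.mk (n.len + 1)) 0)
    (fun n m φ => by
      apply SimplexCategory.Hom.ext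
      ext j : 2
      rfl)

/-- the first face -/
def faceA : 𝟭 (WithInitial SimplexCategory) ⟶ shiftA ⋙ WithInitial.incl where
  app x := match x with
    | .star => WithInitial.starInitial.to _
    | .of n => WithInitial.incl.map (SimplexCategory.δ (n := n.len) 0)
  naturality x y f := by
    match x, y with
    | .star, _ => exact WithInitial.starInitial.hom_ext _ _
    | .of n, .star => exact (f : PEmpty).elim
    | .of n, .of m =>
      show (WithInitial.incl (C := SimplexCategory)).map f ≫ WithInitial.incl.map _ =
        WithInitial.incl.map _ ≫ WithInitial.incl.map (shiftHom f)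
      refine ((WithInitial.incl (C := SimplexCategory)).map_comp _ _).symm.trans
        (Eq.trans ?_ ((WithInitial.incl (C := SimplexCategory)).map_comp _ _))
      refine congrArg _ ?_
      apply SimplexCategory.Hom.ext
      ext j : 2
      exact (shiftHom_succ f j).symm

variable {X S : TopCat.{u}} (f : X ⟶ S) (g : S ⟶ X) (h : g ≫ f = 𝟙 S)

/-- the term of degree `n` of the augmented Cech nerve -/
noncomputable abbrev Yn (n : SimplexCategory) : TopCat.{u} := (FibDesc.cechAug f).obj (op (WithInitial.of n))

/-- the base -/
noncomputable abbrev Ys : TopCat.{u} := (FibDesc.cechAug f).obj (op WithInitial.star)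

/-- structure map of a morphism of the simplex category -/
noncomputable abbrev ym {n m : SimplexCategory} (φ : n ⟶ m) : Yn f m ⟶ Yn f n :=
  (FibDesc.cechAug f).map ((WithInitial.incl (C := SimplexCategory)).map φ).op

/-- the augmentation -/
noncomputable abbrev ya (n : SimplexCategory) : Yn f n ⟶ Ys f :=
  (FibDesc.cechAug f).map (WithInitial.homTo n).op

/-- projection -/
noncomputable def yπ (n : SimplexCategory) (j : Fin (n.len + 1)) : Yn f n ⟶ X :=
  WidePullback.π (fun _ : Fin (n.len + 1) => f) j

theorem ym_π {n m : SimplexCategory} (φ : n ⟶ m) (j : Fin (n.len + 1)) :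
    ym f φ ≫ yπ f n j = yπ f m (φ.toOrderHom j) := by
  show (Arrow.mk f).cechNerve.map φ.op ≫ _ = _
  exact WidePullback.lift_π _ _ _ _ _

theorem yπ_f (n : SimplexCategory) (j : Fin (n.len + 1)) : yπ f n j ≫ f = ya f n :=
  WidePullback.π_arrow (fun _ : Fin (n.len + 1) => f) j

theorem ym_ya {n m : SimplexCategory} (φ : n ⟶ m) : ym f φ ≫ ya f n = ya f m := by
  rw [← yπ_f f n 0, ← Category.assoc, ym_π, yπ_f]

theorem yn_hom_ext {W : TopCat.{u}} {n : SimplexCategory} (a b : W ⟶ Yn f n)
    (hπ : ∀ j, a ≫ yπ f n j = b ≫ yπ f n j) (hb : a ≫ ya f n = b ≫ ya f n) : a = b :=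
  WidePullback.hom_ext (fun _ : Fin (n.len + 1) => f) a b hπ hb

/-- lift -/
noncomputable def ylift {W : TopCat.{u}} (n : SimplexCategory) (b : W ⟶ Ys f)
    (l : Fin (n.len + 1) → (W ⟶ X)) (w : ∀ j, l j ≫ f = b) : W ⟶ Yn f n :=
  WidePullback.lift b l w

theorem ylift_π {W : TopCat.{u}} (n : SimplexCategory) (b : W ⟶ Ys f)
    (l : Fin (n.len + 1) → (W ⟶ X)) (w : ∀ j, l j ≫ f = b) (j : Fin (n.len + 1)) :
    ylift f n b l w ≫ yπ f n j = l j :=
  WidePullback.lift_π _ _ _ _ _

theorem ylift_a {W : TopCat.{u}} (n : SimplexCategory) (b : W ⟶ Ys f)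
    (l : Fin (n.len + 1) → (W ⟶ X)) (w : ∀ j, l j ≫ f = b) : ylift f n b l w ≫ ya f n = b :=
  WidePullback.lift_base _ _ _ _

/-- the section in degree `-1` -/
noncomputable def sStar : Ys f ⟶ Yn f (SimplexCategory.mk 0) :=
  ylift f (SimplexCategory.mk 0) (𝟙 _) (fun _ => g) (fun _ => h)

/-- the section in degree `n` -/
noncomputable def sOf (n : SimplexCategory) : Yn f n ⟶ Yn f (SimplexCategory.mk (n.len + 1)) :=
  ylift f (SimplexCategory.mk (n.len + 1)) (ya f n)
    (Fin.cases (motive := fun _ => Yn f n ⟶ X) (ya f n ≫ g) (yπ f n)) (fun i => by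
      induction i using Fin.cases with
      | zero =>
        show (ya f n ≫ g) ≫ f = _
        rw [Category.assoc, h]
        exact Category.comp_id _
      | succ i => exact yπ_f f n i)

theorem sOf_zero (n : SimplexCategory) :
    sOf f g h n ≫ yπ f (SimplexCategory.mk (n.len + 1)) 0 = ya f n ≫ g :=
  ylift_π _ _ _ _ _ _

theorem sOf_succ (n : SimplexCategory) (i : Fin (n.len + 1)) :
    sOf f g h n ≫ yπ f (SimplexCategory.mk (n.len + 1)) i.succ = yπ f n i :=
  ylift_π _ _ _ _ _ _

include h in
theorem isCohDescentMap_of_section : FibDesc.IsCohDescentMap f := by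
  let Y := FibDesc.cechAug f
  let s : Y ⟶ Yσ Y shiftA :=
    { app := fun j => match j with
        | ⟨.star⟩ => sStar f g h
        | ⟨.of n⟩ => sOf f g h n
      naturality := fun i j φ => by
        obtain ⟨i⟩ := i; obtain ⟨j⟩ := j
        obtain ⟨φ⟩ := φ
        match j, i with
        | .star, .star =>
          obtain rfl : φ = 𝟙 _ := WithInitial.starInitial.hom_ext _ _
          exact ((congrArg (· ≫ _) (Y.map_id _)).trans (Category.id_comp _)).trans
            ((congrArg (_ ≫ ·) ((Yσ Y shiftA).map_id _)).trans (Category.comp_id _)).symm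
        | .of n, .star => exact (φ : PEmpty).elim
        | .star, .of n =>
          obtain rfl : φ = WithInitial.homTo n := WithInitial.starInitial.hom_ext _ _
          show ya f n ≫ sStar f g h =
            sOf f g h n ≫ ym f (SimplexCategory.const ⦋0⦌ (SimplexCategory.mk (n.len + 1)) 0)
          refine yn_hom_ext f _ _ (fun k => ?_) ?_
          · rw [Category.assoc, Category.assoc, ym_π, sStar, ylift_π]
            exact (sOf_zero f g h n).symm
          · rw [Category.assoc, Category.assoc, ym_ya, sStar, sOf, ylift_a, ylift_a]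
            exact Category.comp_id _
        | .of n, .of m =>
          show ym f φ ≫ sOf f g h n = sOf f g h m ≫ ym f (shiftHom φ)
          refine yn_hom_ext f _ _ (fun k => ?_) ?_
          · rw [Category.assoc, Category.assoc, ym_π]
            induction k using Fin.cases with
            | zero => rw [shiftHom_zero, sOf_zero, sOf_zero, ← Category.assoc, ym_ya]
            | succ k => rw [shiftHom_succ, sOf_succ, sOf_succ, ym_π]
          · rw [Category.assoc, Category.assoc, ym_ya, sOf, sOf, ylift_a, ylift_a, ym_ya] }
  refine isCohDescentTop Y shiftA faceA s fun j => ?_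
  obtain ⟨j⟩ := j
  match j with
  | .star =>
    show sStar f g h ≫ ya f (SimplexCategory.mk 0) = 𝟙 (Ys f)
    exact ylift_a _ _ _ _ _
  | .of n =>
    show sOf f g h n ≫ ym f (SimplexCategory.δ (n := n.len) 0) = 𝟙 (Yn f n)
    refine yn_hom_ext f _ _ (fun k => ?_) ?_
    · rw [Category.assoc, ym_π, Category.id_comp]
      exact sOf_succ f g h n k
    · rw [Category.assoc, ym_ya, Category.id_comp]
      exact ylift_a _ _ _ _ _

include h in
theorem isUnivCohDescentMap_of_section : FibDesc.IsUnivCohDescentMap f := fun S' b =>
  isCohDescentMap_of_section (pullback.snd f b) (pullback.lift (b ≫ g) (𝟙 S')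
    (by rw [Category.assoc, h, Category.comp_id, Category.id_comp])) (pullback.lift_snd _ _ _)

end Groth.Agent.FibDescSplit
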