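import Mathlib.Algebra.Homology.DerivedCategory.ExactFunctor

/-!
# Full faithfulness on derived categories from a splitting by exact functors

`P : B ⥤ M` exact, `R : M ⥤ B` exact with `P ⋙ R ≅ 𝟭`, and natural transformations `η : 𝟭 ⟶ T`,
`ε : R ⋙ P ⟶ T` invertible on the image of `P`: then `P` is fully faithful on derived categories.
-/

set_option backward.isDefEq.respectTransparency false
set_option backward.isDefEq.respectTransparency.types false
set_option linter.style.haveILetI false
set_option autoImplicit false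

universe w₁ w₂ w₃ v₁ v₂ v₃ u₁ u₂ u₃

open CategoryTheory Limits

namespace Groth.Agent.FibDescSplit

section Map

variable {A : Type u₁} [Category.{v₁} A] [Abelian A] [HasDerivedCategory.{w₁} A]
  {B : Type u₂} [Category.{v₂} B] [Abelian B] [HasDerivedCategory.{w₂} B]
  {C : Type u₃} [Category.{v₃} C] [Abelian C] [HasDerivedCategory.{w₃} C]

local notation "Wq" A => HomologicalComplex.quasiIso A (ComplexShape.up ℤ)

/-- The transformation induced on derived categories. -/
noncomputable def mapD {F G : A ⥤ B} [F.Additive] [G.Additive] [PreservesFiniteLimits F]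
    [PreservesFiniteColimits F] [PreservesFiniteLimits G] [PreservesFiniteColimits G] (τ : F ⟶ G) :
    F.mapDerivedCategory ⟶ G.mapDerivedCategory :=
  Localization.liftNatTrans DerivedCategory.Q (Wq A)
    (F.mapHomologicalComplex (ComplexShape.up ℤ) ⋙ DerivedCategory.Q)
    (G.mapHomologicalComplex (ComplexShape.up ℤ) ⋙ DerivedCategory.Q) _ _
    (Functor.whiskerRight (NatTrans.mapHomologicalComplex τ _) _)

theorem mapD_app {F G : A ⥤ B} [F.Additive] [G.Additive] [PreservesFiniteLimits F]
    [PreservesFiniteColimits F] [PreservesFiniteLimits G] [PreservesFiniteColimits G] (τ : F ⟶ G)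
    (X : CochainComplex A ℤ) :
    (mapD τ).app (DerivedCategory.Q.obj X) = F.mapDerivedCategoryFactors.hom.app X ≫
      DerivedCategory.Q.map ((NatTrans.mapHomologicalComplex τ _).app X) ≫
        G.mapDerivedCategoryFactors.inv.app X :=
  Localization.liftNatTrans_app _ _ _ _ _ _ _ X

theorem isIso_mapD_app {F G : A ⥤ B} [F.Additive] [G.Additive] [PreservesFiniteLimits F]
    [PreservesFiniteColimits F] [PreservesFiniteLimits G] [PreservesFiniteColimits G] (τ : F ⟶ G)
    (X : CochainComplex A ℤ) (h : ∀ n, IsIso (τ.app (X.X n))) :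
    IsIso ((mapD τ).app (DerivedCategory.Q.obj X)) := by
  haveI : IsIso ((NatTrans.mapHomologicalComplex τ (ComplexShape.up ℤ)).app X) := by
    haveI : ∀ n, IsIso (((NatTrans.mapHomologicalComplex τ (ComplexShape.up ℤ)).app X).f n) := h
    exact HomologicalComplex.Hom.isIso_of_components _
  rw [mapD_app]
  infer_instance

variable (F : A ⥤ B) (G : B ⥤ C) [F.Additive] [G.Additive] [PreservesFiniteLimits F]
  [PreservesFiniteColimits F] [PreservesFiniteLimits G] [PreservesFiniteColimits G]
  [PreservesFiniteLimits (F ⋙ G)] [PreservesFiniteColimits (F ⋙ G)]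

/-- Both sides restricted to complexes. -/
noncomputable def compFactors :
    DerivedCategory.Q ⋙ F.mapDerivedCategory ⋙ G.mapDerivedCategory ≅
      (F ⋙ G).mapHomologicalComplex (ComplexShape.up ℤ) ⋙ DerivedCategory.Q :=
  (Functor.associator _ _ _).symm ≪≫ Functor.isoWhiskerRight F.mapDerivedCategoryFactors _ ≪≫
    Functor.associator _ _ _ ≪≫ Functor.isoWhiskerLeft _ G.mapDerivedCategoryFactors ≪≫
    (Functor.associator _ _ _).symm ≪≫
    Functor.isoWhiskerRight (NatIso.ofComponents (fun _ => Iso.refl _)) _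

/-- Derived functors of exact functors compose. -/
noncomputable def compIsoD :
    (F ⋙ G).mapDerivedCategory ≅ F.mapDerivedCategory ⋙ G.mapDerivedCategory :=
  letI : Localization.Lifting DerivedCategory.Q (Wq A)
      ((F ⋙ G).mapHomologicalComplex (ComplexShape.up ℤ) ⋙ DerivedCategory.Q)
      (F.mapDerivedCategory ⋙ G.mapDerivedCategory) := ⟨compFactors F G⟩
  Localization.liftNatIso DerivedCategory.Q (Wq A)
    ((F ⋙ G).mapHomologicalComplex (ComplexShape.up ℤ) ⋙ DerivedCategory.Q)
    ((F ⋙ G).mapHomologicalComplex (ComplexShape.up ℤ) ⋙ DerivedCategory.Q) _ _ (Iso.refl _)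

variable (A) in
/-- The derived functor of the identity. -/
noncomputable def idIsoD : (𝟭 A).mapDerivedCategory ≅ 𝟭 (DerivedCategory A) :=
  letI : Localization.Lifting DerivedCategory.Q (Wq A)
      ((𝟭 A).mapHomologicalComplex (ComplexShape.up ℤ) ⋙ DerivedCategory.Q) (𝟭 (DerivedCategory A)) :=
    ⟨Functor.rightUnitor _ ≪≫ (Functor.leftUnitor _).symm ≪≫
      Functor.isoWhiskerRight (NatIso.ofComponents (fun _ => HomologicalComplex.Hom.isoOfComponents
        (fun _ => Iso.refl _))) _⟩
  Localization.liftNatIso DerivedCategory.Q (Wq A)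
    ((𝟭 A).mapHomologicalComplex (ComplexShape.up ℤ) ⋙ DerivedCategory.Q)
    ((𝟭 A).mapHomologicalComplex (ComplexShape.up ℤ) ⋙ DerivedCategory.Q) _ _ (Iso.refl _)

end Map

section Split

variable {B : Type u₁} [Category.{v₁} B] [Abelian B] [HasDerivedCategory.{w₁} B]
  {M : Type u₂} [Category.{v₂} M] [Abelian M] [HasDerivedCategory.{w₂} M]
  (P : B ⥤ M) (R : M ⥤ B) (T : M ⥤ M) [P.Additive] [R.Additive] [T.Additive]
  [PreservesFiniteLimits P] [PreservesFiniteColimits P] [PreservesFiniteLimits R]
  [PreservesFiniteColimits R] [PreservesFiniteLimits T] [PreservesFiniteColimits T]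

theorem bijective_mapDerived (e : P ⋙ R ≅ 𝟭 B) (η : 𝟭 M ⟶ T) (ε : R ⋙ P ⟶ T)
    (hη : ∀ X : B, IsIso (η.app (P.obj X))) (hε : ∀ X : B, IsIso (ε.app (P.obj X)))
    (K L : DerivedCategory B) :
    Function.Bijective fun f : K ⟶ L => P.mapDerivedCategory.map f := by
  haveI : PreservesFiniteLimits (P ⋙ R) := comp_preservesFiniteLimits _ _
  haveI : PreservesFiniteColimits (P ⋙ R) := comp_preservesFiniteColimits _ _
  haveI : PreservesFiniteLimits (R ⋙ P) := comp_preservesFiniteLimits _ _
  haveI : PreservesFiniteColimits (R ⋙ P) := comp_preservesFiniteColimits _ _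
  let PD := P.mapDerivedCategory
  let RD := R.mapDerivedCategory
  haveI : IsIso (mapD e.hom) := by
    haveI : ∀ X, IsIso ((mapD e.hom).app X) := fun X => by
      haveI := isIso_mapD_app e.hom (DerivedCategory.Q.objPreimage X) (fun n => inferInstance)
      exact (NatTrans.isIso_app_iff_of_iso (mapD e.hom) (DerivedCategory.Q.objObjPreimageIso X)).1
        inferInstance
    exact NatIso.isIso_of_isIso_app _
  let a : PD ⋙ RD ≅ 𝟭 (DerivedCategory B) := (compIsoD P R).symm ≪≫ asIso (mapD e.hom) ≪≫ idIsoD B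
  let ηD : 𝟭 (DerivedCategory M) ⟶ T.mapDerivedCategory := (idIsoD M).inv ≫ mapD η
  let εD : RD ⋙ PD ⟶ T.mapDerivedCategory := (compIsoD R P).inv ≫ mapD ε
  have onP : ∀ {F G : M ⥤ M} [F.Additive] [G.Additive] [PreservesFiniteLimits F]
      [PreservesFiniteColimits F] [PreservesFiniteLimits G] [PreservesFiniteColimits G] (τ : F ⟶ G),
      (∀ X : B, IsIso (τ.app (P.obj X))) → ∀ X, IsIso ((mapD τ).app (PD.obj X)) := by
    intro F G _ _ _ _ _ _ τ hτ X
    let i : DerivedCategory.Q.obj ((P.mapHomologicalComplex _).obj (DerivedCategory.Q.objPreimage X)) ≅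
        PD.obj X :=
      (P.mapDerivedCategoryFactors.app _).symm ≪≫ PD.mapIso (DerivedCategory.Q.objObjPreimageIso X)
    haveI := isIso_mapD_app τ ((P.mapHomologicalComplex _).obj (DerivedCategory.Q.objPreimage X))
      (fun n => hτ _)
    exact (NatTrans.isIso_app_iff_of_iso (mapD τ) i).1 inferInstance
  haveI : ∀ X, IsIso (ηD.app (PD.obj X)) := fun X => by
    haveI := onP η hη X
    exact inferInstanceAs (IsIso ((idIsoD M).inv.app _ ≫ (mapD η).app _))
  haveI : ∀ X, IsIso (εD.app (PD.obj X)) := fun X => by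
    haveI := onP ε hε X
    exact inferInstanceAs (IsIso ((compIsoD R P).inv.app _ ≫ (mapD ε).app _))
  let θ : PD ⟶ PD := Functor.whiskerRight a.inv PD ≫
    { app := fun X => εD.app (PD.obj X) ≫ inv (ηD.app (PD.obj X))
      naturality := fun X Y f => by
        have h₁ := εD.naturality (PD.map f)
        have h₂ := ηD.naturality (PD.map f)
        simp only [Functor.comp_map, Functor.id_map] at h₁ h₂ ⊢
        rw [Category.assoc, reassoc_of% h₁]
        congr 1
        rw [IsIso.eq_inv_comp, ← reassoc_of% h₂, IsIso.hom_inv_id, Category.comp_id] }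
  haveI : ∀ X, IsIso (θ.app X) := fun X =>
    inferInstanceAs (IsIso (PD.map (a.inv.app X) ≫ εD.app (PD.obj X) ≫ inv (ηD.app (PD.obj X))))
  refine ⟨fun f g h => ?_, fun φ => ?_⟩
  · have hf := a.hom.naturality f
    have hg := a.hom.naturality g
    simp only [Functor.comp_map, Functor.id_map] at hf hg
    have h' : RD.map (PD.map f) = RD.map (PD.map g) := congrArg RD.map h
    rw [h', hg] at hf
    exact ((cancel_epi (a.hom.app K)).1 hf).symm
  · let g : K ⟶ L := a.inv.app K ≫ RD.map φ ≫ a.hom.app L
    refine ⟨g, ?_⟩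
    have h₁ := εD.naturality φ
    have h₂ := ηD.naturality φ
    simp only [Functor.comp_map, Functor.id_map] at h₁ h₂
    have key : θ.app K ≫ φ = PD.map g ≫ θ.app L := by
      show (PD.map (a.inv.app K) ≫ εD.app (PD.obj K) ≫ inv (ηD.app (PD.obj K))) ≫ φ =
        PD.map (a.inv.app K ≫ RD.map φ ≫ a.hom.app L) ≫
          PD.map (a.inv.app L) ≫ εD.app (PD.obj L) ≫ inv (ηD.app (PD.obj L))
      have hL : PD.map (a.hom.app L) ≫ PD.map (a.inv.app L) = 𝟙 _ := by
        rw [← Functor.map_comp, Iso.hom_inv_id_app]; exact PD.map_id _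
      rw [Functor.map_comp, Functor.map_comp, Category.assoc, Category.assoc, Category.assoc,
        Category.assoc, reassoc_of% hL]
      congr 1
      rw [reassoc_of% h₁]
      congr 1
      rw [IsIso.inv_comp_eq, ← Category.assoc, IsIso.eq_comp_inv, h₂]
    rw [← cancel_epi (θ.app K), key]
    exact (θ.naturality g).symm

end Split

end Groth.Agent.FibDescSplit
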