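import Groth.Agent.FibDescSplit.Core
import Mathlib.CategoryTheory.Sites.Pullback
import Mathlib.CategoryTheory.Adjunction.Triple
import Mathlib.CategoryTheory.Adjunction.Additive
import Mathlib.CategoryTheory.Sites.CoverLifting
import Mathlib.CategoryTheory.Sites.Abelian
import Mathlib.Algebra.Category.Grp.FilteredColimits
import Mathlib.Algebra.Category.Grp.Limits
import Mathlib.Algebra.Category.Grp.AB
import Mathlib.Algebra.Homology.DerivedCategory.TStructure

/-!
# Descent along an augmentation with a shift and a splitting

Abelian sheaves on sites: a base `B` and a part `C` inside a total site `C'`, a shifted site `Z` with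
functors `Sg : Z ⥤ C`, `Ad : C' ⥤ Z`, `As : Z ⥤ C'`.
-/

set_option backward.isDefEq.respectTransparency false
set_option backward.isDefEq.respectTransparency.types false
set_option linter.style.haveILetI false
set_option linter.unusedSectionVars false
set_option autoImplicit false
set_option synthInstance.maxHeartbeats 400000
set_option maxHeartbeats 1600000

universe u

open CategoryTheory Limits Opposite Functor

namespace Groth.Agent.FibDescSplit

section Exact

variable {C D : Type u} [SmallCategory C] [SmallCategory D] (G : C ⥤ D)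
  (J : GrothendieckTopology C) (K : GrothendieckTopology D)

/-- abelian sheaves -/
abbrev Sh : Type (u + 1) := Sheaf J AddCommGrpCat.{u}

/-- restriction -/
noncomputable abbrev res [G.IsContinuous J K] : Sh K ⥤ Sh J :=
  G.sheafPushforwardContinuous AddCommGrpCat.{u} J K

/-- inverse image -/
noncomputable abbrev pb [G.IsContinuous J K] : Sh J ⥤ Sh K :=
  G.sheafPullback AddCommGrpCat.{u} J K

/-- inverse image is left adjoint to restriction -/
noncomputable abbrev pbAdj [G.IsContinuous J K] : pb G J K ⊣ res G J K :=
  G.sheafAdjunctionContinuous AddCommGrpCat.{u} J K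

/-- direct image by right Kan extension -/
noncomputable abbrev rk [G.IsCocontinuous J K] : Sh J ⥤ Sh K :=
  G.sheafPushforwardCocontinuous AddCommGrpCat.{u} J K

/-- restriction is left adjoint to right Kan extension -/
noncomputable abbrev rkAdj [G.IsContinuous J K] [G.IsCocontinuous J K] : res G J K ⊣ rk G J K :=
  G.sheafAdjunctionCocontinuous AddCommGrpCat.{u} J K

instance res_limits [G.IsContinuous J K] : PreservesFiniteLimits (res G J K) :=
  haveI : PreservesLimitsOfSize.{0, 0} (res G J K) := (pbAdj G J K).rightAdjoint_preservesLimits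
  PreservesLimitsOfSize.preservesFiniteLimits _

instance res_colimits [G.IsContinuous J K] [G.IsCocontinuous J K] :
    PreservesFiniteColimits (res G J K) :=
  haveI : PreservesColimitsOfSize.{0, 0} (res G J K) := (rkAdj G J K).leftAdjoint_preservesColimits
  PreservesColimitsOfSize.preservesFiniteColimits _

instance res_additive [G.IsContinuous J K] : (res G J K).Additive where

instance pb_limits [G.IsContinuous J K] [RepresentablyFlat G] : PreservesFiniteLimits (pb G J K) := by
  apply sheafPullbackConstruction.preservesFiniteLimits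

instance pb_colimits [G.IsContinuous J K] : PreservesFiniteColimits (pb G J K) :=
  haveI : PreservesColimitsOfSize.{0, 0} (pb G J K) := (pbAdj G J K).leftAdjoint_preservesColimits
  PreservesColimitsOfSize.preservesFiniteColimits _

instance pb_additive [G.IsContinuous J K] : (pb G J K).Additive := (pbAdj G J K).left_adjoint_additive

/-- The counit of `res ⊣ rk` at a sheaf, evaluated after a universal arrow, is invertible. -/
theorem isIso_map_counit [G.IsContinuous J K] [G.IsCocontinuous J K] (M : Sh J) (d : D) (a : C)
    (ν : G.obj a ⟶ d) (h : ∀ z : C, Function.Bijective fun f : z ⟶ a => G.map f ≫ ν) :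
    IsIso (((rk G J K).obj M).obj.map ν.op ≫ (((rkAdj G J K).counit.app M).hom.app (op a))) := by
  rw [Functor.sheafAdjunctionCocontinuous_counit_app_hom]
  have hp := G.op.isPointwiseRightKanExtensionRanCounit M.obj (op d)
  let f₀ : StructuredArrow (op d) G.op := StructuredArrow.mk (Y := op a) ν.op
  have hi : IsInitial f₀ := IsInitial.ofUniqueHom
    (fun g => StructuredArrow.homMk (Equiv.ofBijective _ (h g.right.unop) |>.symm g.hom.unop).op (by
      apply Quiver.Hom.unop_inj
      exact (Equiv.ofBijective _ (h g.right.unop)).apply_symm_apply g.hom.unop))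
    (fun g k => by
      apply StructuredArrow.ext
      apply Quiver.Hom.unop_inj
      apply (h g.right.unop).1
      refine Eq.trans ?_ ((Equiv.ofBijective _ (h g.right.unop)).apply_symm_apply g.hom.unop).symm
      exact congrArg Quiver.Hom.unop (StructuredArrow.w k))
  exact isIso_π_of_isInitial_of_isLimit hp hi
where
  isIso_π_of_isInitial_of_isLimit {J' : Type _} [Category J'] {F : J' ⥤ AddCommGrpCat.{u}} {c : Cone F}
      (hc : IsLimit c) {j : J'} (I : IsInitial j) : IsIso (c.π.app j) := by
    have : IsIso ((coneOfDiagramInitial I F).π.app j) := by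
      show IsIso (F.map (I.to j))
      rw [I.hom_ext (I.to j) (𝟙 j), F.map_id]
      infer_instance
    rw [← hc.conePointUniqueUpToIso_hom_comp (limitOfDiagramInitial I F) j]
    infer_instance

end Exact

variable {B C C' Z : Type u} [SmallCategory B] [SmallCategory C] [SmallCategory C'] [SmallCategory Z]
  (JB : GrothendieckTopology B) (JC : GrothendieckTopology C) (J : GrothendieckTopology C')
  (JZ : GrothendieckTopology Z)
  (E : B ⥤ C') (i : C ⥤ C') (Sg : Z ⥤ C) (Ad : C' ⥤ Z) (As : Z ⥤ C')

variable [E.Full] [E.Faithful] [RepresentablyFlat E] [E.IsContinuous JB J] [E.IsCocontinuous JB J]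
  [i.Full] [i.Faithful] [i.IsContinuous JC J] [i.IsCocontinuous JC J]
  [Sg.IsContinuous JZ JC] [Sg.IsCocontinuous JZ JC] [Ad.IsContinuous J JZ]
  [RepresentablyFlat As] [As.IsContinuous JZ J]

include JZ in
theorem bijective_pull (ν : Ad ⋙ Sg ⋙ i ⟶ 𝟭 C') (h : Ad ⋙ As ≅ 𝟭 C')
    (huniv : ∀ (U : B) (z : Z),
      Function.Bijective fun f : z ⟶ Ad.obj (E.obj U) => i.map (Sg.map f) ≫ ν.app (E.obj U)) :
    letI := HasDerivedCategory.standard (Sh JB)
    letI := HasDerivedCategory.standard (Sh JC)
    ∀ [PreservesFiniteLimits (pb E JB J ⋙ res i JC J)] [PreservesFiniteColimits (pb E JB J ⋙ res i JC J)]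
      (K L : DerivedCategory (Sh JB)),
      Function.Bijective fun f : K ⟶ L => (pb E JB J ⋙ res i JC J).mapDerivedCategory.map f := by
  letI := HasDerivedCategory.standard (Sh JB)
  letI := HasDerivedCategory.standard (Sh JC)
  intro _ _ K L
  haveI : (Sg ⋙ i).IsContinuous JZ J := Functor.isContinuous_comp _ _ _ JC _
  haveI : (Sg ⋙ i).IsCocontinuous JZ J := CategoryTheory.isCocontinuous_comp (K := JC) (G := Sg) (G' := i) JZ
  haveI : (Ad ⋙ As).IsContinuous J J := Functor.isContinuous_comp _ _ _ JZ _
  haveI : (i ⋙ Ad).IsContinuous JC JZ := Functor.isContinuous_comp _ _ _ J _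
  let G : Z ⥤ C' := Sg ⋙ i
  -- on the total site: `N ⟶ Ad_* G^* N`
  let μ : 𝟭 (Sh J) ⟶ res G JZ J ⋙ res Ad J JZ :=
    { app := fun N => ⟨{ app := fun x => N.obj.map (ν.app x.unop).op
                         naturality := fun x y f => by
                           show N.obj.map f ≫ N.obj.map _ = N.obj.map _ ≫ N.obj.map _
                           rw [← N.obj.map_comp, ← N.obj.map_comp]
                           congr 1
                           exact congrArg Quiver.Hom.op (ν.naturality f.unop).symm }⟩
      naturality := fun N N' g => by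
        apply ObjectProperty.hom_ext
        ext x
        exact ConcreteCategory.congr_hom (g.hom.naturality (ν.app x.unop).op).symm _ }
  -- the adjunction for `As ∘ Ad`
  let eR : res As JZ J ⋙ res Ad J JZ ≅ 𝟭 (Sh J) :=
    NatIso.ofComponents (fun N => (fullyFaithfulSheafToPresheaf _ _).preimageIso
      (NatIso.ofComponents (fun x => N.obj.mapIso (h.app x.unop).symm.op) (fun {x y} f => by
        show N.obj.map _ ≫ N.obj.map _ = N.obj.map _ ≫ N.obj.map f
        rw [← N.obj.map_comp, ← N.obj.map_comp]
        congr 1
        exact congrArg Quiver.Hom.op (h.inv.naturality f.unop).symm)))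
      (fun {N N'} g => by
        apply ObjectProperty.hom_ext
        ext x
        exact ConcreteCategory.congr_hom (g.hom.naturality (h.inv.app x.unop).op).symm _)
  let adjS := pbAdj As JZ J
  let adjD := pbAdj Ad J JZ
  haveI hunit : IsIso (adjD.comp adjS).unit := by
    haveI : (res As JZ J ⋙ res Ad J JZ).IsEquivalence := Functor.isEquivalence_of_iso eR.symm
    infer_instance
  let ηh : 𝟭 (Sh J) ⟶ res G JZ J ⋙ pb As JZ J :=
    { app := fun N => μ.app N ≫ (res Ad J JZ).map (adjS.unit.app ((res G JZ J).obj N)) ≫
        eR.hom.app ((pb As JZ J).obj ((res G JZ J).obj N))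
      naturality := fun N N' g => by
        have h₁ := μ.naturality g
        have h₂ := adjS.unit.naturality ((res G JZ J).map g)
        have h₃ := eR.hom.naturality ((pb As JZ J).map ((res G JZ J).map g))
        simp only [Functor.id_map, Functor.comp_map] at h₁ h₂ h₃ ⊢
        rw [reassoc_of% h₁, ← Functor.map_comp_assoc, h₂, Functor.map_comp_assoc, h₃,
          Category.assoc, Category.assoc] }
  -- invertibility on extensions from the base
  have hζ : ∀ X : Sh JB, IsIso ((adjD.homEquiv ((pb E JB J).obj X) ((res G JZ J).obj ((pb E JB J).obj X))).symm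
      (μ.app ((pb E JB J).obj X))) := by
    intro X
    let N := (pb E JB J).obj X
    have key : ∀ M : Sh JZ, Function.Bijective
        fun f : (res G JZ J).obj N ⟶ M => μ.app N ≫ (res Ad J JZ).map f := by
      intro M
      let ρ : (rk G JZ J).obj M ⟶ (res Ad J JZ).obj M :=
        μ.app ((rk G JZ J).obj M) ≫ (res Ad J JZ).map ((rkAdj G JZ J).counit.app M)
      have hρ : IsIso ((res E JB J).map ρ) := by
        haveI : IsIso ((sheafToPresheaf JB AddCommGrpCat.{u}).map ((res E JB J).map ρ)) := by
          haveI : ∀ U, IsIso (((sheafToPresheaf JB AddCommGrpCat.{u}).map ((res E JB J).map ρ)).app U) :=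
            fun U => isIso_map_counit G JZ J M (E.obj U.unop) (Ad.obj (E.obj U.unop)) (ν.app _)
              (huniv U.unop)
          exact NatIso.isIso_of_isIso_app _
        exact isIso_of_reflects_iso _ (sheafToPresheaf JB AddCommGrpCat.{u})
      have e : (fun f : (res G JZ J).obj N ⟶ M => μ.app N ≫ (res Ad J JZ).map f) =
          (fun g : N ⟶ (rk G JZ J).obj M => g ≫ ρ) ∘ ((rkAdj G JZ J).homEquiv N M) := by
        funext f
        show μ.app N ≫ (res Ad J JZ).map f = (rkAdj G JZ J).homEquiv N M f ≫ ρ
        have h₁ := μ.naturality ((rkAdj G JZ J).homEquiv N M f)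
        simp only [Functor.id_map, Functor.comp_map] at h₁
        refine Eq.trans ?_ ((reassoc_of% h₁) ((res Ad J JZ).map ((rkAdj G JZ J).counit.app M))).symm
        refine congrArg (μ.app N ≫ ·) ?_
        refine Eq.trans (congrArg (res Ad J JZ).map ?_) ((res Ad J JZ).map_comp _ _)
        exact (((rkAdj G JZ J).homEquiv_counit ..).symm.trans
          ((rkAdj G JZ J).homEquiv N M |>.symm_apply_apply f)).symm
      rw [e]
      refine Function.Bijective.comp ?_ (Equiv.bijective _)
      have e' : (fun g : N ⟶ (rk G JZ J).obj M => g ≫ ρ) =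
          ((pbAdj E JB J).homEquiv X _).symm ∘ (fun g : X ⟶ _ => g ≫ (res E JB J).map ρ) ∘
            (pbAdj E JB J).homEquiv X _ := by
        funext g
        show g ≫ ρ = _
        rw [Function.comp_apply, Function.comp_apply, ← Adjunction.homEquiv_naturality_right,
          Equiv.symm_apply_apply]
      rw [e']
      exact (Equiv.bijective _).comp ((Iso.homCongr (Iso.refl X) (asIso ((res E JB J).map ρ))).bijective
        |> fun hb => by
          refine Function.Bijective.comp ?_ (Equiv.bijective _)
          exact ⟨fun a b hab => (cancel_mono ((res E JB J).map ρ)).1 hab,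
            fun c => ⟨c ≫ inv ((res E JB J).map ρ), by simp⟩⟩)
    let ζ := (adjD.homEquiv N ((res G JZ J).obj N)).symm (μ.app N)
    show IsIso ζ
    haveI : ∀ M, IsIso ((coyoneda.map ζ.op).app M) := fun M => by
      rw [isIso_iff_bijective]
      have : ((coyoneda.map ζ.op).app M : _ → _) = fun f => (adjD.homEquiv N M).symm
          (μ.app N ≫ (res Ad J JZ).map f) := by
        funext f
        show ζ ≫ f = _
        exact (adjD.homEquiv_naturality_right_symm _ _).symm
      rw [this]
      exact (Equiv.bijective _).comp (key M)
    haveI : IsIso (coyoneda.map ζ.op) := NatIso.isIso_of_isIso_app _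
    haveI : IsIso ζ.op := isIso_of_reflects_iso _ coyoneda
    exact (isIso_op_iff ζ).1 inferInstance
  have hηh : ∀ X : Sh JB, IsIso (ηh.app ((pb E JB J).obj X)) := by
    intro X
    let N := (pb E JB J).obj X
    let ζ := (adjD.homEquiv N ((res G JZ J).obj N)).symm (μ.app N)
    haveI : IsIso ζ := hζ X
    have hμ : μ.app N = adjD.unit.app N ≫ (res Ad J JZ).map ζ :=
      ((adjD.homEquiv N _).apply_symm_apply _).symm.trans (adjD.homEquiv_unit ..)
    have h₂ := adjS.unit.naturality ζ
    simp only [Functor.id_map, Functor.comp_map] at h₂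
    have e : ηh.app N = (adjD.comp adjS).unit.app N ≫
        (res As JZ J ⋙ res Ad J JZ).map ((pb As JZ J).map ζ) ≫ eR.hom.app _ := by
      show μ.app N ≫ (res Ad J JZ).map _ ≫ eR.hom.app _ = _
      rw [hμ, Category.assoc, ← Functor.map_comp_assoc, h₂, Functor.map_comp_assoc,
        Adjunction.comp_unit_app, Category.assoc]
      rfl
    rw [show ηh.app ((pb E JB J).obj X) = ηh.app N from rfl, e]
    infer_instance
  -- `E` is fully faithful on sheaves
  haveI hEunit : IsIso (pbAdj E JB J).unit := by
    haveI : IsIso (E.op.ranAdjunction AddCommGrpCat.{u}).counit := by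
      rw [Functor.ranAdjunction_counit]; exact NatIso.isIso_of_isIso_app _
    have hran := (E.op.ranAdjunction AddCommGrpCat.{u}).fullyFaithfulROfIsIsoCounit
    let t : Adjunction.Triple (pb E JB J) (res E JB J) (rk E JB J) := ⟨pbAdj E JB J, rkAdj E JB J⟩
    have hr : (rk E JB J).FullyFaithful :=
      Functor.FullyFaithful.ofCompFaithful (G := sheafToPresheaf _ _)
        (((fullyFaithfulSheafToPresheaf _ _).comp hran).ofIso
          (E.sheafPushforwardCocontinuousCompSheafToPresheafIso AddCommGrpCat.{u} JB J).symm)
    haveI := (t.fullyFaithfulEquiv.symm hr).full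
    haveI := (t.fullyFaithfulEquiv.symm hr).faithful
    infer_instance
  -- the data on the part
  let T : Sh JC ⥤ Sh JC := res Sg JZ JC ⋙ pb As JZ J ⋙ res i JC J
  let R : Sh JC ⥤ Sh JB := res Sg JZ JC ⋙ pb As JZ J ⋙ res E JB J
  let P : Sh JB ⥤ Sh JC := pb E JB J ⋙ res i JC J
  let μC : 𝟭 (Sh JC) ⟶ res Sg JZ JC ⋙ res (i ⋙ Ad) JC JZ :=
    { app := fun M => ⟨{ app := fun x => M.obj.map (i.preimage (ν.app (i.obj x.unop))).op
                         naturality := fun x y f => by
                           show M.obj.map f ≫ M.obj.map _ = M.obj.map _ ≫ M.obj.map _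
                           rw [← M.obj.map_comp, ← M.obj.map_comp]
                           congr 1
                           refine Quiver.Hom.unop_inj (i.map_injective ?_)
                           simp only [unop_comp, Functor.map_comp, Quiver.Hom.unop_op,
                             Functor.map_preimage, Functor.op_map]
                           exact (ν.naturality (i.map f.unop)).symm }⟩
      naturality := fun M M' g => by
        apply ObjectProperty.hom_ext
        ext x
        exact ConcreteCategory.congr_hom (g.hom.naturality (i.preimage (ν.app (i.obj x.unop))).op).symm _ }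
  let η : 𝟭 (Sh JC) ⟶ T :=
    { app := fun M => μC.app M ≫ (res i JC J).map ((res Ad J JZ).map (adjS.unit.app ((res Sg JZ JC).obj M)) ≫
        eR.hom.app ((pb As JZ J).obj ((res Sg JZ JC).obj M)))
      naturality := fun M M' g => by
        have h₁ := μC.naturality g
        have h₂ := adjS.unit.naturality ((res Sg JZ JC).map g)
        have h₃ := eR.hom.naturality ((pb As JZ J).map ((res Sg JZ JC).map g))
        simp only [Functor.id_map, Functor.comp_map] at h₁ h₂ h₃ ⊢
        rw [reassoc_of% h₁, Category.assoc]
        congr 1
        show (res i JC J).map ((res Ad J JZ).map ((res Sg JZ JC).map g)) ≫ _ = _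
        rw [← Functor.map_comp]
        show _ = (res i JC J).map _ ≫ (res i JC J).map ((pb As JZ J).map ((res Sg JZ JC).map g))
        rw [← Functor.map_comp, ← Functor.map_comp_assoc, h₂, Functor.map_comp_assoc, h₃, Category.assoc] }
  let ε : R ⋙ P ⟶ T :=
    { app := fun M => (res i JC J).map ((pbAdj E JB J).counit.app ((pb As JZ J).obj ((res Sg JZ JC).obj M)))
      naturality := fun M M' g => by
        have := (pbAdj E JB J).counit.naturality ((pb As JZ J).map ((res Sg JZ JC).map g))
        exact ((res i JC J).map_comp _ _).symm.trans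
          ((congrArg (res i JC J).map this).trans ((res i JC J).map_comp _ _)) }
  have hη : ∀ X : Sh JB, IsIso (η.app (P.obj X)) := fun X => by
    have e : η.app (P.obj X) = (res i JC J).map (ηh.app ((pb E JB J).obj X)) := by
      refine Eq.trans ?_ ((res i JC J).map_comp _ _).symm
      refine congrArg (· ≫ (res i JC J).map _) ?_
      apply ObjectProperty.hom_ext
      ext x : 2
      exact congrArg (fun t => ((pb E JB J).obj X).obj.map t.op) (i.map_preimage _)
    haveI := hηh X
    rw [e]
    infer_instance
  have hcounit : ∀ X : Sh JB, IsIso ((pbAdj E JB J).counit.app ((pb E JB J).obj X)) := fun X => by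
    have := (pbAdj E JB J).left_triangle_components X
    exact IsIso.of_isIso_fac_left this
  have hε : ∀ X : Sh JB, IsIso (ε.app (P.obj X)) := fun X => by
    haveI := hηh X
    haveI := hcounit X
    haveI : IsIso ((pbAdj E JB J).counit.app
        ((pb As JZ J).obj ((res Sg JZ JC).obj (P.obj X)))) :=
      (NatTrans.isIso_app_iff_of_iso (pbAdj E JB J).counit (asIso (ηh.app ((pb E JB J).obj X)))).1
        (hcounit X)
    exact inferInstanceAs (IsIso ((res i JC J).map _))
  let e : P ⋙ R ≅ 𝟭 (Sh JB) :=
    (NatIso.ofComponents
      (fun X => haveI := hηh X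
        (res E JB J).mapIso (asIso (ηh.app ((pb E JB J).obj X))))
      (fun {X Y} f => by
        show (res E JB J).map ((pb E JB J).map f) ≫ (res E JB J).map (ηh.app _) =
          (res E JB J).map (ηh.app _) ≫
            (res E JB J).map ((res G JZ J ⋙ pb As JZ J).map ((pb E JB J).map f))
        rw [← Functor.map_comp, ← Functor.map_comp]
        exact congrArg (res E JB J).map (ηh.naturality ((pb E JB J).map f))) :
      pb E JB J ⋙ res E JB J ≅ P ⋙ R).symm ≪≫ (asIso (pbAdj E JB J).unit).symm
  haveI : PreservesFiniteLimits (pb As JZ J ⋙ res i JC J) := comp_preservesFiniteLimits _ _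
  haveI : PreservesFiniteLimits (pb As JZ J ⋙ res E JB J) := comp_preservesFiniteLimits _ _
  haveI : PreservesFiniteColimits (pb As JZ J ⋙ res i JC J) := comp_preservesFiniteColimits _ _
  haveI : PreservesFiniteColimits (pb As JZ J ⋙ res E JB J) := comp_preservesFiniteColimits _ _
  haveI : PreservesFiniteLimits T := comp_preservesFiniteLimits _ _
  haveI : PreservesFiniteLimits R := comp_preservesFiniteLimits _ _
  haveI : PreservesFiniteColimits T := comp_preservesFiniteColimits _ _
  haveI : PreservesFiniteColimits R := comp_preservesFiniteColimits _ _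
  exact bijective_mapDerived P R T e η ε hη hε K L

end Groth.Agent.FibDescSplit
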