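import Groth.Agent.FibDescSplit.Abstract
import Groth.Agent.FibSiteLib.Sheaf
import Groth.Prelude.Def_FibDesc

/-!
# An augmented indexed space with a split shift is of cohomological descent
-/

set_option backward.isDefEq.respectTransparency false
set_option backward.isDefEq.respectTransparency.types false
set_option linter.style.haveILetI false
set_option linter.unusedSectionVars false
set_option autoImplicit false
set_option synthInstance.maxHeartbeats 400000
set_option maxHeartbeats 1600000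

universe u

open CategoryTheory CategoryTheory.Limits Opposite Pseudofunctor Pseudofunctor.CoGrothendieck TopologicalSpace

namespace Groth.Agent.FibDescSplit

section Thin

variable {𝒮 : Type} [SmallCategory 𝒮] {F : Pseudofunctor (LocallyDiscrete 𝒮ᵒᵖ) Cat.{u, u}}
  [∀ S : 𝒮, Quiver.IsThin (F.obj ⟨op S⟩)]

theorem total_hom_ext {x y : ∫ᶜ F} {f g : x ⟶ y} (h : f.base = g.base) : f = g := by
  obtain ⟨f, v⟩ := f
  obtain ⟨g, w⟩ := g
  obtain rfl : f = g := h
  exact congrArg _ (Subsingleton.elim _ _)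

end Thin

variable {D : Type} [SmallCategory D] (Y : (WithInitial D)ᵒᵖ ⥤ TopCat.{u})

instance thin_aug (S : (WithInitial D)ᵒᵖ) : Quiver.IsThin ((FibDesc.topAug Y).obj ⟨op S⟩) :=
  fun a b => inferInstanceAs (Subsingleton ((show Opens (Y.obj S) from a) ⟶ (show Opens (Y.obj S) from b)))

instance thin_part (S : Dᵒᵖ) : Quiver.IsThin ((FibDesc.part (FibDesc.topAug Y)).obj ⟨op S⟩) :=
  fun a b => inferInstanceAs (Subsingleton
    ((show Opens (Y.obj ((FibDesc.toAug D).obj S)) from a) ⟶ (show Opens (Y.obj ((FibDesc.toAug D).obj S)) from b)))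

theorem isPreFibSite_aug : FibSite.IsPreFibSite (FibDesc.topAug Y) (FibDesc.topAugTop Y) := fun i j f =>
  inferInstanceAs ((Opens.map (Y.map f)).IsContinuous (Opens.grothendieckTopology (Y.obj j))
    (Opens.grothendieckTopology (Y.obj i)))

theorem isPreFibSite_baseChange {𝒮 : Type} [SmallCategory 𝒮] (ψ : 𝒮 ⥤ (WithInitial D)ᵒᵖ) :
    FibSite.IsPreFibSite (FibSite.baseChange (FibDesc.topAug Y) ψ)
      (FibSite.baseChangeTop (FibDesc.topAugTop Y) ψ) := fun i j f =>
  isPreFibSite_aug Y (ψ.map f)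

theorem isPreFibSite_part :
    FibSite.IsPreFibSite (FibDesc.part (FibDesc.topAug Y))
      (FibDesc.partTop (FibDesc.topAug Y) (FibDesc.topAugTop Y)) := fun i j f =>
  isPreFibSite_aug Y ((FibDesc.toAug D).map f)

section BaseChange

variable {𝒮 : Type} [SmallCategory 𝒮] {F : Pseudofunctor (LocallyDiscrete 𝒮ᵒᵖ) Cat.{u, u}}
  (J : FibSite.Topologies F) {𝒮' : Type} [SmallCategory 𝒮'] (ψ : 𝒮' ⥤ 𝒮)
  [∀ S : 𝒮, Quiver.IsThin (F.obj ⟨op S⟩)]

instance thin_baseChange (S : 𝒮') : Quiver.IsThin ((FibSite.baseChange F ψ).obj ⟨op S⟩) :=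
  fun a b => (inferInstance : Quiver.IsThin (F.obj ⟨op (ψ.obj S)⟩)) a b

theorem baseChangeFunctor_isContinuous (hF : FibSite.IsPreFibSite F J)
    (hG : FibSite.IsPreFibSite (FibSite.baseChange F ψ) (FibSite.baseChangeTop J ψ)) :
    (FibSite.baseChangeFunctor F ψ).IsContinuous
      (FibSite.totalTopology (FibSite.baseChange F ψ) (FibSite.baseChangeTop J ψ))
      (FibSite.totalTopology F J) := by
  rw [FibSiteLib.isContinuous_total_iff hG]
  intro S
  haveI : (ι F (ψ.obj S)).IsContinuous (FibSite.baseChangeTop J ψ S) (FibSite.totalTopology F J) :=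
    FibSiteLib.isContinuous_ι hF (ψ.obj S)
  refine Functor.isContinuous_of_iso (F₁ := ι F (ψ.obj S)) ?_ _ _
  exact NatIso.ofComponents (fun U => Iso.refl _) (fun {U V} f => total_hom_ext (by simp; exact (ψ.map_id _).symm))

theorem baseChangeFunctor_isCocontinuous (hF : FibSite.IsPreFibSite F J)
    (hG : FibSite.IsPreFibSite (FibSite.baseChange F ψ) (FibSite.baseChangeTop J ψ)) :
    (FibSite.baseChangeFunctor F ψ).IsCocontinuous
      (FibSite.totalTopology (FibSite.baseChange F ψ) (FibSite.baseChangeTop J ψ))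
      (FibSite.totalTopology F J) := ⟨fun {X S} hS => by
  rw [FibSiteLib.mem_totalTopology_iff hG]
  have h := (FibSiteLib.mem_totalTopology_iff hF S).1 hS
  refine GrothendieckTopology.superset_covering _ ?_ h
  intro W w hw
  change S.arrows ((FibSite.baseChangeFunctor F ψ).map ((ι (FibSite.baseChange F ψ) X.base).map w))
  rw [show (FibSite.baseChangeFunctor F ψ).map ((ι (FibSite.baseChange F ψ) X.base).map w) =
    (ι F (ψ.obj X.base)).map w from total_hom_ext (by simp; exact ψ.map_id _)]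
  exact hw⟩

theorem baseChangeFunctor_full [ψ.Full] : (FibSite.baseChangeFunctor F ψ).Full :=
  ⟨fun {x y} f => ⟨⟨ψ.preimage f.base, eqToHom rfl ≫ f.fiber ≫
      eqToHom (congrArg (fun g => (FibSite.invImage F g).obj y.fiber) (ψ.map_preimage f.base).symm)⟩,
    total_hom_ext (ψ.map_preimage f.base)⟩⟩

theorem baseChangeFunctor_faithful [ψ.Faithful] : (FibSite.baseChangeFunctor F ψ).Faithful :=
  ⟨fun {x y f g} h => total_hom_ext (ψ.map_injective (congrArg CoGrothendieck.Hom.base h))⟩

end BaseChange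

variable (σ : WithInitial D ⥤ D)

/-- the shifted augmented family -/
noncomputable abbrev shiftAug : Pseudofunctor (LocallyDiscrete ((WithInitial D)ᵒᵖ)ᵒᵖ) Cat.{u, u} :=
  FibSite.baseChange (FibDesc.part (FibDesc.topAug Y)) σ.op

/-- its topologies -/
noncomputable abbrev shiftTop : FibSite.Topologies (shiftAug Y σ) :=
  FibSite.baseChangeTop (FibDesc.partTop (FibDesc.topAug Y) (FibDesc.topAugTop Y)) σ.op

theorem isPreFibSite_shift : FibSite.IsPreFibSite (shiftAug Y σ) (shiftTop Y σ) := fun i j f =>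
  isPreFibSite_part Y (σ.op.map f)

/-- the shifted space at `j` -/
abbrev Yσ : (WithInitial D)ᵒᵖ ⥤ TopCat.{u} := (σ ⋙ WithInitial.incl).op ⋙ Y

/-- inclusions in a fibre of the augmented family -/
noncomputable def augLE {i : (WithInitial D)ᵒᵖ} {U V : (FibDesc.topAug Y).obj ⟨op i⟩}
    (h : (show Opens (Y.obj i) from U) ≤ (show Opens (Y.obj i) from V)) : U ⟶ V :=
  (homOfLE h : (show Opens (Y.obj i) from U) ⟶ (show Opens (Y.obj i) from V))

theorem le_aug {i : (WithInitial D)ᵒᵖ} {U V : (FibDesc.topAug Y).obj ⟨op i⟩} (f : U ⟶ V) :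
    (show Opens (Y.obj i) from U) ≤ (show Opens (Y.obj i) from V) :=
  leOfHom (show (show Opens (Y.obj i) from U) ⟶ (show Opens (Y.obj i) from V) from f)

/-- inclusions in a fibre of the shifted family -/
noncomputable def shiftLE {i : (WithInitial D)ᵒᵖ} {U V : (shiftAug Y σ).obj ⟨op i⟩}
    (h : (show Opens ((Yσ Y σ).obj i) from U) ≤ (show Opens ((Yσ Y σ).obj i) from V)) : U ⟶ V :=
  (homOfLE h : (show Opens ((Yσ Y σ).obj i) from U) ⟶ (show Opens ((Yσ Y σ).obj i) from V))

/-- inverse images along `d` -/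
noncomputable def AdF (d : Yσ Y σ ⟶ Y) : ∫ᶜ (FibDesc.topAug Y) ⥤ ∫ᶜ (shiftAug Y σ) where
  obj x := ⟨x.base, (Opens.map (d.app x.base)).obj x.fiber⟩
  map {x y} f := ⟨f.base, eqToHom rfl ≫ (Opens.map (d.app x.base)).map f.fiber ≫ eqToHom (by
    show (Opens.map (d.app x.base)).obj ((Opens.map (Y.map f.base)).obj y.fiber) =
      (Opens.map ((Yσ Y σ).map f.base)).obj ((Opens.map (d.app y.base)).obj y.fiber)
    exact congrArg (fun g => (Opens.map g).obj y.fiber) (d.naturality f.base).symm)⟩
  map_id x := total_hom_ext rfl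
  map_comp f g := total_hom_ext rfl

/-- inverse images along `s` -/
noncomputable def AsF (s : Y ⟶ Yσ Y σ) : ∫ᶜ (shiftAug Y σ) ⥤ ∫ᶜ (FibDesc.topAug Y) where
  obj x := ⟨x.base, (Opens.map (s.app x.base)).obj x.fiber⟩
  map {x y} f := ⟨f.base, eqToHom rfl ≫ (Opens.map (s.app x.base)).map f.fiber ≫ eqToHom (by
    show (Opens.map (s.app x.base)).obj ((Opens.map ((Yσ Y σ).map f.base)).obj y.fiber) =
      (Opens.map (Y.map f.base)).obj ((Opens.map (s.app y.base)).obj y.fiber)
    exact congrArg (fun g => (Opens.map g).obj y.fiber) (s.naturality f.base).symm)⟩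
  map_id x := total_hom_ext rfl
  map_comp f g := total_hom_ext rfl

theorem AdF_isContinuous (d : Yσ Y σ ⟶ Y) :
    (AdF Y σ d).IsContinuous (FibDesc.totAug (FibDesc.topAug Y) (FibDesc.topAugTop Y))
      (FibSite.totalTopology (shiftAug Y σ) (shiftTop Y σ)) := by
  rw [FibSiteLib.isContinuous_total_iff (isPreFibSite_aug Y)]
  intro S
  let m : (FibDesc.topAug Y).obj ⟨op S⟩ ⥤ (shiftAug Y σ).obj ⟨op S⟩ := Opens.map (d.app S)
  haveI : m.IsContinuous (FibDesc.topAugTop Y S) (shiftTop Y σ S) :=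
    inferInstanceAs ((Opens.map (d.app S)).IsContinuous (Opens.grothendieckTopology (Y.obj S))
      (Opens.grothendieckTopology ((Yσ Y σ).obj S)))
  haveI := FibSiteLib.isContinuous_ι (isPreFibSite_shift Y σ) S
  haveI := Functor.isContinuous_comp m (ι (shiftAug Y σ) S) (FibDesc.topAugTop Y S) (shiftTop Y σ S)
    (FibSite.totalTopology (shiftAug Y σ) (shiftTop Y σ))
  refine Functor.isContinuous_of_iso (F₁ := m ⋙ ι (shiftAug Y σ) S) ?_ _ _
  exact NatIso.ofComponents (fun U => Iso.refl _) (fun {U V} f => total_hom_ext (by simp; rfl))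

theorem AsF_isContinuous (s : Y ⟶ Yσ Y σ) :
    (AsF Y σ s).IsContinuous (FibSite.totalTopology (shiftAug Y σ) (shiftTop Y σ))
      (FibDesc.totAug (FibDesc.topAug Y) (FibDesc.topAugTop Y)) := by
  rw [FibSiteLib.isContinuous_total_iff (isPreFibSite_shift Y σ)]
  intro S
  let m : (shiftAug Y σ).obj ⟨op S⟩ ⥤ (FibDesc.topAug Y).obj ⟨op S⟩ := Opens.map (s.app S)
  haveI : m.IsContinuous (shiftTop Y σ S) (FibDesc.topAugTop Y S) :=
    inferInstanceAs ((Opens.map (s.app S)).IsContinuous (Opens.grothendieckTopology ((Yσ Y σ).obj S))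
      (Opens.grothendieckTopology (Y.obj S)))
  haveI := FibSiteLib.isContinuous_ι (isPreFibSite_aug Y) S
  haveI := Functor.isContinuous_comp m (ι (FibDesc.topAug Y) S) (shiftTop Y σ S) (FibDesc.topAugTop Y S)
    (FibDesc.totAug (FibDesc.topAug Y) (FibDesc.topAugTop Y))
  refine Functor.isContinuous_of_iso (F₁ := m ⋙ ι (FibDesc.topAug Y) S) ?_ _ _
  exact NatIso.ofComponents (fun U => Iso.refl _) (fun {U V} f => total_hom_ext (by simp; rfl))

theorem AsF_flat (s : Y ⟶ Yσ Y σ) : RepresentablyFlat (AsF Y σ s) := ⟨fun x => by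
  haveI : Nonempty (StructuredArrow x (AsF Y σ s)) :=
    ⟨StructuredArrow.mk (Y := (⟨x.base, (⊤ : Opens ((Yσ Y σ).obj x.base))⟩ : ∫ᶜ (shiftAug Y σ)))
      ⟨𝟙 _, augLE Y (fun _ _ => trivial)⟩⟩
  haveI : IsCofilteredOrEmpty (StructuredArrow x (AsF Y σ s)) := {
    cone_objs := fun a b => by
      let Wa : Opens ((Yσ Y σ).obj x.base) := (Opens.map ((Yσ Y σ).map a.hom.base)).obj a.right.fiber
      let Wb : Opens ((Yσ Y σ).obj x.base) := (Opens.map ((Yσ Y σ).map b.hom.base)).obj b.right.fiber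
      let Wab : Opens ((Yσ Y σ).obj x.base) := Wa ⊓ Wb
      let W : ∫ᶜ (shiftAug Y σ) := ⟨x.base, Wab⟩
      have hx : (show Opens (Y.obj x.base) from x.fiber) ≤ (Opens.map (Y.map (𝟙 x.base))).obj
          ((Opens.map (s.app x.base)).obj (Wa ⊓ Wb)) := by
        intro p hp
        show (Y.map (𝟙 x.base) ≫ s.app x.base) p ∈ ((Wa ⊓ Wb : Opens _) : Set _)
        rw [CategoryTheory.Functor.map_id, Category.id_comp]
        refine ⟨?_, ?_⟩
        · show (s.app x.base ≫ (Yσ Y σ).map a.hom.base) p ∈ (show Opens ((Yσ Y σ).obj a.right.base) from a.right.fiber)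
          rw [← s.naturality]
          exact le_aug Y a.hom.fiber hp
        · show (s.app x.base ≫ (Yσ Y σ).map b.hom.base) p ∈ (show Opens ((Yσ Y σ).obj b.right.base) from b.right.fiber)
          rw [← s.naturality]
          exact le_aug Y b.hom.fiber hp
      refine ⟨StructuredArrow.mk (Y := W) ⟨𝟙 x.base, augLE Y hx⟩,
        StructuredArrow.homMk ⟨a.hom.base, shiftLE Y σ inf_le_left⟩ (total_hom_ext (Category.id_comp _)),
        StructuredArrow.homMk ⟨b.hom.base, shiftLE Y σ inf_le_right⟩ (total_hom_ext (Category.id_comp _)),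
        trivial⟩
    cone_maps := fun a b p q => by
      let Wa : Opens ((Yσ Y σ).obj x.base) := (Opens.map ((Yσ Y σ).map a.hom.base)).obj a.right.fiber
      let W : ∫ᶜ (shiftAug Y σ) := ⟨x.base, Wa⟩
      have hx : (show Opens (Y.obj x.base) from x.fiber) ≤ (Opens.map (Y.map (𝟙 x.base))).obj
          ((Opens.map (s.app x.base)).obj Wa) := by
        intro z hz
        show (Y.map (𝟙 x.base) ≫ s.app x.base ≫ (Yσ Y σ).map a.hom.base) z ∈ (show Opens ((Yσ Y σ).obj a.right.base) from a.right.fiber)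
        rw [CategoryTheory.Functor.map_id, Category.id_comp, ← s.naturality]
        exact le_aug Y a.hom.fiber hz
      refine ⟨StructuredArrow.mk (Y := W) ⟨𝟙 x.base, augLE Y hx⟩,
        StructuredArrow.homMk ⟨a.hom.base, shiftLE Y σ le_rfl⟩ (total_hom_ext (Category.id_comp _)), ?_⟩
      refine StructuredArrow.ext _ _ (total_hom_ext ?_)
      have hp := congrArg CoGrothendieck.Hom.base (StructuredArrow.w p)
      have hq := congrArg CoGrothendieck.Hom.base (StructuredArrow.w q)
      exact hp.trans hq.symm }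
  exact { }⟩

/-- morphisms to the base point are unique -/
theorem subsingleton_bot (i : (WithInitial D)ᵒᵖ) : Subsingleton (i ⟶ FibDesc.bot D) :=
  ⟨fun f g => Quiver.Hom.unop_inj ((WithInitial.starInitial (C := D)).hom_ext _ _)⟩

theorem eps_flat : RepresentablyFlat (FibDesc.eps (FibDesc.topAug Y)) := ⟨fun x => by
  haveI := subsingleton_bot (D := D) x.base
  let g : x.base ⟶ FibDesc.bot D := ((WithInitial.starInitial (C := D)).to x.base.unop).op
  haveI : Nonempty (StructuredArrow x (FibDesc.eps (FibDesc.topAug Y))) :=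
    ⟨StructuredArrow.mk (Y := (⊤ : Opens (Y.obj (FibDesc.bot D)))) ⟨g, augLE Y (fun _ _ => trivial)⟩⟩
  haveI : IsCofilteredOrEmpty (StructuredArrow x (FibDesc.eps (FibDesc.topAug Y))) := {
    cone_objs := fun a b => by
      let W : Opens (Y.obj (FibDesc.bot D)) :=
        (show Opens (Y.obj (FibDesc.bot D)) from a.right) ⊓ (show Opens (Y.obj (FibDesc.bot D)) from b.right)
      have hx : (show Opens (Y.obj x.base) from x.fiber) ≤ (Opens.map (Y.map g)).obj W := by
        intro z hz
        refine ⟨?_, ?_⟩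
        · have := le_aug Y a.hom.fiber hz
          rwa [(subsingleton_bot x.base).elim g a.hom.base]
        · have := le_aug Y b.hom.fiber hz
          rwa [(subsingleton_bot x.base).elim g b.hom.base]
      exact ⟨StructuredArrow.mk (Y := W) ⟨g, augLE Y hx⟩,
        StructuredArrow.homMk (homOfLE inf_le_left) (total_hom_ext ((subsingleton_bot x.base).elim _ _)),
        StructuredArrow.homMk (homOfLE inf_le_right) (total_hom_ext ((subsingleton_bot x.base).elim _ _)), trivial⟩
    cone_maps := fun a b p q => ⟨a, 𝟙 _, StructuredArrow.ext _ _ (Subsingleton.elim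
      (α := (show Opens (Y.obj (FibDesc.bot D)) from a.right) ⟶ (show Opens (Y.obj (FibDesc.bot D)) from b.right))
      _ _)⟩ }
  exact { }⟩

instance hasSheafify_shift :
    HasSheafify (FibSite.totalTopology (shiftAug Y σ) (shiftTop Y σ)) AddCommGrpCat.{u} := inferInstance

/-- An augmented indexed space with a split shift is of cohomological descent. -/
theorem isCohDescentTop (δ : 𝟭 (WithInitial D) ⟶ σ ⋙ WithInitial.incl) (s : Y ⟶ Yσ Y σ)
    (hs : ∀ j : (WithInitial D)ᵒᵖ, s.app j ≫ Y.map (δ.app j.unop).op = 𝟙 (Y.obj j))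
    [HasSheafify (FibDesc.topAugTop Y (FibDesc.bot D)) AddCommGrpCat.{u}]
    [HasSheafify (FibDesc.totPart (FibDesc.topAug Y) (FibDesc.topAugTop Y)) AddCommGrpCat.{u}] :
    FibDesc.IsCohDescentTop Y := by
  let F := FibDesc.topAug Y
  let J := FibDesc.topAugTop Y
  have hF := isPreFibSite_aug Y
  have hP := isPreFibSite_part Y
  have hZ := isPreFibSite_shift Y σ
  let d : Yσ Y σ ⟶ Y :=
    { app := fun j => Y.map (δ.app j.unop).op
      naturality := fun i j f => by
        show Y.map _ ≫ Y.map _ = Y.map _ ≫ Y.map f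
        rw [← Y.map_comp, ← Y.map_comp]
        congr 1
        exact congrArg Quiver.Hom.op (δ.naturality f.unop).symm }
  let E := FibDesc.eps F
  let i := FibDesc.incl F
  let Sg := FibSite.baseChangeFunctor (FibDesc.part F) σ.op
  let Ad := AdF Y σ d
  let As := AsF Y σ s
  haveI : E.IsContinuous (J (FibDesc.bot D)) (FibDesc.totAug F J) := FibSiteLib.isContinuous_ι hF _
  haveI : E.IsCocontinuous (J (FibDesc.bot D)) (FibDesc.totAug F J) := FibSiteLib.isCocontinuous_ι hF _
  haveI hincl : i.IsContinuous (FibDesc.totPart F J) (FibDesc.totAug F J) :=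
    baseChangeFunctor_isContinuous J (FibDesc.toAug D) hF hP
  haveI hincl' : i.IsCocontinuous (FibDesc.totPart F J) (FibDesc.totAug F J) :=
    baseChangeFunctor_isCocontinuous J (FibDesc.toAug D) hF hP
  haveI : Sg.IsContinuous (FibSite.totalTopology (shiftAug Y σ) (shiftTop Y σ)) (FibDesc.totPart F J) :=
    baseChangeFunctor_isContinuous _ σ.op hP hZ
  haveI : Sg.IsCocontinuous (FibSite.totalTopology (shiftAug Y σ) (shiftTop Y σ)) (FibDesc.totPart F J) :=
    baseChangeFunctor_isCocontinuous _ σ.op hP hZ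
  haveI : Ad.IsContinuous (FibDesc.totAug F J) (FibSite.totalTopology (shiftAug Y σ) (shiftTop Y σ)) :=
    AdF_isContinuous Y σ d
  haveI : As.IsContinuous (FibSite.totalTopology (shiftAug Y σ) (shiftTop Y σ)) (FibDesc.totAug F J) :=
    AsF_isContinuous Y σ s
  haveI := eps_flat Y
  haveI : RepresentablyFlat As := AsF_flat Y σ s
  haveI : E.Full := ⟨fun {U V} f => by
    haveI := subsingleton_bot (D := D) (FibDesc.bot D)
    obtain ⟨w, hw⟩ := FibSiteLib.mkHom_one f ((subsingleton_bot (FibDesc.bot D)).elim _ _)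
    exact ⟨w, hw.symm⟩⟩
  haveI : E.Faithful := ⟨fun {_ _ _ _} h => FibSiteLib.ι_map_injective h⟩
  haveI : i.Full := baseChangeFunctor_full (FibDesc.toAug D)
  haveI : i.Faithful := baseChangeFunctor_faithful (FibDesc.toAug D)
  let ν : Ad ⋙ Sg ⋙ i ⟶ 𝟭 (∫ᶜ F) :=
    { app := fun x => (⟨(δ.app x.base.unop).op, 𝟙 ((Opens.map (d.app x.base)).obj x.fiber)⟩ :
        i.obj (Sg.obj (Ad.obj x)) ⟶ x)
      naturality := fun x y f => total_hom_ext (Quiver.Hom.unop_inj (δ.naturality f.base.unop).symm) }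
  let h : Ad ⋙ As ≅ 𝟭 (∫ᶜ F) :=
    NatIso.ofComponents (fun x => (ι F x.base).mapIso (eqToIso (by
      show (Opens.map (s.app x.base)).obj ((Opens.map (d.app x.base)).obj x.fiber) = x.fiber
      exact congrArg (fun g => (Opens.map g).obj x.fiber) (hs x.base))))
      (fun {x y} f => total_hom_ext (by
        show f.base ≫ 𝟙 _ = 𝟙 _ ≫ f.base
        rw [Category.comp_id, Category.id_comp]))
  have huniv : ∀ (U : F.obj ⟨op (FibDesc.bot D)⟩) (z : ∫ᶜ (shiftAug Y σ)),
      Function.Bijective fun f : z ⟶ Ad.obj (E.obj U) => i.map (Sg.map f) ≫ ν.app (E.obj U) := by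
    intro U z
    haveI := subsingleton_bot (D := D) z.base
    refine ⟨fun f g _ => total_hom_ext ((subsingleton_bot z.base).elim _ _), fun k => ?_⟩
    let g : z.base ⟶ FibDesc.bot D := ((WithInitial.starInitial (C := D)).to z.base.unop).op
    haveI := subsingleton_bot (D := D) (i.obj (Sg.obj z)).base
    have hle : (show Opens ((Yσ Y σ).obj z.base) from z.fiber) ≤
        (Opens.map ((Yσ Y σ).map g)).obj ((Opens.map (d.app (FibDesc.bot D))).obj U) := by
      intro p hp
      have hk := le_aug Y k.fiber hp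
      show ((Yσ Y σ).map g ≫ d.app _) p ∈ (show Opens (Y.obj (FibDesc.bot D)) from U)
      rw [d.naturality g]
      have e : k.base = (δ.app z.base.unop).op ≫ g := (subsingleton_bot _).elim _ _
      rw [e] at hk
      show (Y.map (δ.app z.base.unop).op ≫ Y.map g) p ∈ (show Opens (Y.obj (FibDesc.bot D)) from U)
      rw [← Y.map_comp]
      exact hk
    exact ⟨⟨g, shiftLE Y σ hle⟩, total_hom_ext ((subsingleton_bot (i.obj (Sg.obj z)).base).elim _ _)⟩
  haveI hflat : PreservesFiniteLimits (FibDesc.pull F J AddCommGrpCat.{u}) :=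
    comp_preservesFiniteLimits (pb E (J (FibDesc.bot D)) (FibDesc.totAug F J))
      (res i (FibDesc.totPart F J) (FibDesc.totAug F J))
  refine ⟨inferInstance, inferInstance, hincl, hincl', inferInstance, hflat, fun K L => ?_⟩
  exact bijective_pull (J (FibDesc.bot D)) (FibDesc.totPart F J) (FibDesc.totAug F J)
    (FibSite.totalTopology (shiftAug Y σ) (shiftTop Y σ)) E i Sg Ad As ν h huniv K.obj L.obj

end Groth.Agent.FibDescSplit
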